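/-
Certificate data of a coset enumeration.
-/
import Cfsg.Agent.Lib.CosetEnum.U62A.Data

set_option autoImplicit false
set_option maxRecDepth 1000000

namespace CfsgLib.CosetEnum.U62A

open CfsgLib.CosetEnum

/-- Justifications of the facts from 28000. -/
def just7 : List ℕ := [0x6cb506afe06cb506d5c06d5c004001017db00104a, 0x6cb806d5c06d5c002001017db00104d, 0x6cb906d5c06d5c002001017db00104f, 0xfff, 0x6cbe06d6306d63002001017dc001011, 0x6cbf06cd106d63002001017dc001012, 0x6cbb06b0106b0506cc906d63004001017dc001013, 0x6d4206d4306d63002001017dc001014, 0x6cc006d2806d63002001017dc001015, 0x6cbb06aff067eb067e9067e8067e60635405daf05dae055af0527605275052740527104bc604bd204bd804bd704bd6040e704106041090410b04c12055e0055e60523a0523b05bc7062860675a0675806759068110680b0638505db20635406357067ec06b0c06b1206aa706c7706d3206d3306cb406d5406d5706cb706cb906cba06d5c06d6006d5f06d1606bcb0696b06bf106cfb06d6303c001017dc00105f, 0x6d0206cd006d65000003017f4003038, 0xfff, 0x6cdf06d6b06d6b002001017e1001037, 0x6cde06ce306d6b002001017e100103d,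 0x6ce106c5406ce106d6b06d6b004001017e100101d, 0x6ce206d1406d6b002001017e100101f, 0x6d4406d4006d4406d6b06d6b004001017e1001020, 0xfff, 0x6d4606d7106d71002001017f0001037, 0x6d4706d7106d71002001017f000103d, 0x6d4906c9506d4906d7106d71004001017f000101d, 0x6d4a06d6b06d71002001017f000101e, 0x6d4b06d7106d71002001017f000101f, 0x6d4506c8806d4506d7106d71004001017f0001020, 0xfff, 0x6d5d06d7806d78002001017f300103a, 0x6d5e06d7806d78002001017f3001040, 0x6d5f06d6f06d78002001017f3001045, 0x6d6006d7806d78002001017f3001049, 0x6d6106d7806d78002001017f300104c, 0x6d5c06cba06d5c06d7806d78004001017f3001029, 0xfff, 0x6d7206d7f06d7f002001017f6001036, 0x6d7106d4806d7106d7f06d7f004001017f6001017, 0x6d7406d7f06d7f002001017f6001018, 0x6d7506d7b06d7f002001017f6001019, 0x6d7606d7f06d7f002001017f600101a, 0x6d7706d7f06d7f002001017f600101b, 0xfff, 0x6d7f06d7306d7f06d8606d86004001017f8001010, 0x6d8106d8606d86002001017f8001011, 0x6d8206d8606d86002001017f8001012, 0x6d8306d7a06d8306d8606d86004001017f8001013, 0x6d8406d8606d86002001017f8001014, 0x6d8506d8606d86002001017f8001015,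 0xfff, 0x6d8606d8006d8606d8d06d8d004001017f9001008, 0x6d8706d8d06d8d002001017f9001009, 0x6d8806d8d06d8d002001017f900100a, 0x6d8906d8d06d8d002001017f900100b, 0x6d8a06d8d06d8d002001017f900100c, 0x6d8b06d8d06d8d002001017f900100d, 0x6d8c06d8d06d8d002001017f900100e]

theorem just7_ok : data.okChunk 28000 just7 = true := by decide +kernel

theorem just7_len : just7.length = 53 := by decide +kernel

end CfsgLib.CosetEnum.U62A
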